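import Groth.Agent.SigmaLin.Witt
import Mathlib.Algebra.CharP.Frobenius
import Mathlib.RingTheory.TensorProduct.Free
/-!
Fixed vectors of a `p`-semilinear endomorphism over an algebraically closed field.
-/
set_option autoImplicit false
universe u v
open TensorProduct

noncomputable section

namespace Groth.Agent.FrobFix

variable {k : Type u} {V : Type v} [Field k] [IsAlgClosed k] (p : ℕ) [Fact p.Prime] [CharP k p]
  [AddCommGroup V] [Module k V] [FiniteDimensional k V] (F : V →+ V)

/-- The semilinear map. -/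
def T (hF : ∀ (c : k) (v : V), F (c • v) = c ^ p • F v) : V →ₛₗ[frobenius k p] V where
  toFun := F
  map_add' := F.map_add
  map_smul' c v := hF c v

theorem main (hF : ∀ (c : k) (v : V), F (c • v) = c ^ p • F v) :
    (Function.Surjective fun v => F v - v) ∧
      ∃ (d : ℕ) (b : Fin d → V) (N : ℕ), d ≤ Module.finrank k V ∧ LinearIndependent k b ∧
        (∀ i, F (b i) = b i) ∧ ∀ v, (⇑F)^[N] v ∈ Submodule.span k (Set.range b) := by
  classical
  obtain ⟨h2, h3⟩ := SigmaLin.cond_frobenius (p := p) (σ := frobenius k p) fun x => rfl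
  obtain ⟨hs, hb'⟩ := SigmaLin.main h2 h3 (T p F hF)
  constructor
  · intro v
    obtain ⟨w, hw⟩ := hs (-v)
    refine ⟨w, ?_⟩
    have hw' : w - F w = -v := hw
    show F w - w = v
    rw [← neg_sub, hw', neg_neg]
  set I := ⨅ n : ℕ, SigmaLin.imSpan (T p F hF) n
  obtain ⟨b, hb⟩ := hb'
  refine ⟨_, fun i => (b i : V), ?_⟩
  have hmono : Antitone (SigmaLin.imSpan (T p F hF)) := antitone_nat_of_succ_le fun n =>
    Submodule.span_mono (by rintro _ ⟨z, rfl⟩; exact ⟨T p F hF z, (Function.iterate_succ_apply _ _ _).symm⟩)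
  obtain ⟨N, hN⟩ := (monotone_stabilizes_iff_artinian (R := k) (M := V)).2 inferInstance
    ⟨fun n => OrderDual.toDual (SigmaLin.imSpan (T p F hF) n), fun a c hac => hmono hac⟩
  have hI : I = SigmaLin.imSpan (T p F hF) N := le_antisymm (iInf_le _ _) (le_iInf fun m => by
    rcases le_total N m with h | h
    · exact (congrArg OrderDual.ofDual (hN m h)).le
    · exact hmono h)
  refine ⟨N, Submodule.finrank_le I, b.linearIndependent.map' I.subtype I.ker_subtype, hb, fun v => ?_⟩
  have hspan : Submodule.span k (Set.range fun i => (b i : V)) = I := by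
    rw [show (Set.range fun i => (b i : V)) = I.subtype '' Set.range b by rw [← Set.range_comp]; rfl,
      ← Submodule.map_span, b.span_eq, Submodule.map_top, Submodule.range_subtype]
  rw [hspan, hI]
  exact Submodule.subset_span ⟨v, rfl⟩

theorem eq_natCast {K : Type*} [Field K] [CharP K p] {c : K} (h : c ^ p = c) :
    ∃ n : Fin p, c = (n : ℕ) := by
  obtain ⟨z, rfl⟩ : c ∈ (ZMod.castHom (dvd_refl p) K).range := by
    classical
    by_contra hc
    have hp := (Fact.out : p.Prime)
    let q : Polynomial K := Polynomial.X ^ p - Polynomial.X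
    have hq : q ≠ 0 := FiniteField.X_pow_card_sub_X_ne_zero K hp.one_lt
    let S : Finset K := insert c (Finset.univ.image (ZMod.castHom (dvd_refl p) K))
    have hS : S ⊆ q.roots.toFinset := fun x hx => by
      rw [Multiset.mem_toFinset, Polynomial.mem_roots hq]
      rcases Finset.mem_insert.1 hx with rfl | hx
      · simp [q, h]
      · obtain ⟨z, -, rfl⟩ := Finset.mem_image.1 hx
        simp only [q, Polynomial.IsRoot, Polynomial.eval_sub, Polynomial.eval_pow, Polynomial.eval_X]
        rw [← map_pow, ZMod.pow_card, sub_self]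
    have h1 := (Finset.card_le_card hS).trans ((Multiset.toFinset_card_le _).trans (q.card_roots'))
    rw [FiniteField.X_pow_card_sub_X_natDegree_eq K hp.one_lt, Finset.card_insert_of_notMem (by simpa using fun z hz => hc ⟨z, hz⟩),
      Finset.card_image_of_injective _ (RingHom.injective _), Finset.card_univ, ZMod.card] at h1
    omega
  refine ⟨⟨z.val, ZMod.val_lt z⟩, ?_⟩
  rw [ZMod.castHom_apply, ZMod.cast_eq_val]

theorem fixed_eq (hF : ∀ (c : k) (v : V), F (c • v) = c ^ p • F v) :
    ∃ (d : ℕ) (b : Fin d → V), d ≤ Module.finrank k V ∧ LinearIndependent k b ∧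
      {v | F v = v} = Set.range fun c : Fin d → Fin p => ∑ i, ((c i : ℕ) : k) • b i := by
  classical
  obtain ⟨-, d, b, N, hd, hli, hb, hN⟩ := main p F hF
  refine ⟨d, b, hd, hli, Set.ext fun v => ⟨fun hv => ?_, ?_⟩⟩
  · obtain ⟨c, hc⟩ := (Submodule.mem_span_range_iff_exists_fun k).1 (hN v)
    rw [Function.iterate_fixed hv N] at hc
    have : ∑ i, (c i ^ p - c i) • b i = 0 := by
      simp only [sub_smul, Finset.sum_sub_distrib]
      rw [sub_eq_zero]
      calc ∑ i, c i ^ p • b i = F (∑ i, c i • b i) := by simp [map_sum, hF, hb]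
        _ = ∑ i, c i • b i := by rw [hc]; exact hv
    choose n hn using fun i => eq_natCast p (sub_eq_zero.1 (Fintype.linearIndependent_iff.1 hli _ this i))
    exact ⟨n, by simp only [← hn]; exact hc⟩
  · rintro ⟨c, rfl⟩
    simp [map_sum, hF, hb, ← frobenius_def]

variable {k' : Type u} [Field k'] [Algebra k k']

theorem bijOn_baseChange (hF : ∀ (c : k) (v : V), F (c • v) = c ^ p • F v)
    (F' : k' ⊗[k] V →+ k' ⊗[k] V) (hF' : ∀ (c : k') (v : V), F' (c ⊗ₜ[k] v) = (c ^ p) ⊗ₜ[k] F v) :
    Set.BijOn (fun v : V => (1 : k') ⊗ₜ[k] v) {v : V | F v = v} {w : k' ⊗[k] V | F' w = w} := by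
  classical
  haveI : CharP k' p := (RingHom.charP_iff_charP (algebraMap k k') p).1 ‹_›
  have hinj : Function.Injective fun v : V => (1 : k') ⊗ₜ[k] v :=
    Module.Flat.tensorProduct_mk_injective k V k'
  refine ⟨fun v (hv : F v = v) => by simp [hF', hv], hinj.injOn, ?_⟩
  intro w (hw : F' w = w)
  obtain ⟨-, d, b, N, hd, hli, hb, hN⟩ := main p F hF
  have hsm : ∀ (c : k') (x : k' ⊗[k] V), F' (c • x) = c ^ p • F' x := fun c x => by
    induction x using TensorProduct.induction_on with
    | zero => simp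
    | tmul a v => rw [TensorProduct.smul_tmul', hF', hF', TensorProduct.smul_tmul', smul_eq_mul, smul_eq_mul, mul_pow]
    | add a e ha he => rw [smul_add, map_add, map_add, ha, he, smul_add]
  have hit : ∀ x, (⇑F')^[N] x ∈ Submodule.span k' (Set.range fun i => (1 : k') ⊗ₜ[k] b i) := fun x => by
    have : ∀ (n : ℕ) (c : k') (v : V), (⇑F')^[n] (c ⊗ₜ[k] v) = (c ^ p ^ n) ⊗ₜ[k] ((⇑F)^[n] v) := fun n => by
      induction n with
      | zero => simp
      | succ n ih => intro c v; rw [Function.iterate_succ_apply', ih, hF', ← pow_mul, ← pow_succ, Function.iterate_succ_apply']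
    induction x using TensorProduct.induction_on with
    | zero => rw [iterate_map_zero]; exact zero_mem _
    | tmul c v =>
      obtain ⟨a, ha⟩ := (Submodule.mem_span_range_iff_exists_fun k).1 (hN v)
      rw [this, ← ha, TensorProduct.tmul_sum]
      refine Submodule.sum_mem _ fun i _ => ?_
      have h : (c ^ p ^ N) ⊗ₜ[k] (a i • b i) = (a i • c ^ p ^ N) • ((1 : k') ⊗ₜ[k] b i) := by
        rw [TensorProduct.smul_tmul', smul_eq_mul, mul_one, TensorProduct.smul_tmul]
      exact h ▸ Submodule.smul_mem _ _ (Submodule.subset_span ⟨i, rfl⟩)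
    | add a e ha he => rw [iterate_map_add]; exact add_mem ha he
  obtain ⟨c, hc⟩ := (Submodule.mem_span_range_iff_exists_fun k').1 (hit w)
  rw [Function.iterate_fixed hw N] at hc
  have hli' : LinearIndependent k' fun i => (1 : k') ⊗ₜ[k] b i := Module.Flat.linearIndependent_one_tmul hli
  have : ∑ i, (c i ^ p - c i) • ((1 : k') ⊗ₜ[k] b i) = 0 := by
    refine (Finset.sum_congr rfl fun i _ => sub_smul (c i ^ p) (c i) ((1 : k') ⊗ₜ[k] b i)).trans ?_
    rw [Finset.sum_sub_distrib, sub_eq_zero]
    calc ∑ i, c i ^ p • ((1 : k') ⊗ₜ[k] b i) = F' (∑ i, c i • ((1 : k') ⊗ₜ[k] b i)) := by simp [map_sum, hsm, hF', hb]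
      _ = ∑ i, c i • ((1 : k') ⊗ₜ[k] b i) := by rw [hc]; exact hw
  choose n hn using fun i => eq_natCast p (sub_eq_zero.1 (Fintype.linearIndependent_iff.1 hli' _ this i))
  refine ⟨∑ i, ((n i : ℕ) : k) • b i, by simp [map_sum, hF, hb, ← frobenius_def], ?_⟩
  simp only [hn] at hc
  show (1 : k') ⊗ₜ[k] (∑ i, ((n i : ℕ) : k) • b i) = w
  rw [← hc, TensorProduct.tmul_sum]
  refine Finset.sum_congr rfl fun i _ => ?_
  rw [TensorProduct.tmul_smul, ← algebraMap_smul k' ((n i : ℕ) : k), map_natCast]

end Groth.Agent.FrobFix
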